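import Cfsg.Agent.Mrg.Omega.NO3b.FPB.Cen
import Cfsg.Agent.Mrg.Omega.S5.Def
import Cfsg.Agent.Mrg.Omega.Assembly

section


/-!
# THEOREM BL* (OMEGA #18620, helper107), part 5: the symmetric group

`noBlock` : `P` induces the symmetric group of degree `2^(m+1) + 1` on the even-subset module `E`; there is no block
`(L, V)` over `B = bau S` satisfying `Ctx`.
-/

set_option autoImplicit false

namespace Cfsg.Agent.Omega.NSix.NoBlk.Sym

open Subgroup Cfsg Cfsg.Agent.PLocal.ThompsonJ Cfsg.Agent.ZN Cfsg.Agent.ZN.ChoiceBase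
open Cfsg.Agent.ZN.ChoiceSit
open Cfsg.Agent.Omega.SQ1.BauK.InK (QL mem_QL not_QL)
open Cfsg.Agent.Omega.NO3b.FPB.Base Cfsg.Agent.Omega.NO3b.FPB.Claim
open Cfsg.Agent.Omega.NSix.NoBlk.Pair Cfsg.Agent.Omega.NSix.NoBlk.XB
open Cfsg.Agent.Omega.NSix.NoBlk.Core Cfsg.Agent.Omega.S5.Def

universe u

variable {G : Type u} [Group G] {S : Sylow 2 G} {P Q E L V W : Subgroup G} {n : ℕ}
  {ε : (Fin n → ZMod 2) → G}

/-! ### pull-backs -/

/-- The vectors whose image lies in `H`. -/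
def pull (ev : EvenSet n E P ε) (H : Subgroup G) : AddSubgroup (Fin n → ZMod 2) where
  carrier := {x | ε x ∈ H}
  zero_mem' := by
    change ε 0 ∈ H
    rw [ev.zero]
    exact one_mem _
  add_mem' {x y} hx hy := by
    change ε (x + y) ∈ H
    rw [ev.add]
    exact mul_mem hx hy
  neg_mem' {x} hx := by
    change ε (-x) ∈ H
    have h1 : -x = x := by
      rw [neg_eq_iff_add_eq_zero]
      exact add_self x
    rw [h1]
    exact hx

theorem mem_pull {ev : EvenSet n E P ε} {H : Subgroup G} {x : Fin n → ZMod 2} :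
    x ∈ pull ev H ↔ ε x ∈ H := Iff.rfl

theorem one_mem_pull (ev : EvenSet n E P ε) (H : Subgroup G) : 1 ∈ pull ev H := by
  rw [mem_pull, ev.one]
  exact one_mem _

/-- The permutations induced by the elements of `H`. -/
def ind (ε : (Fin n → ZMod 2) → G) (H : Subgroup G) : Subgroup (Equiv.Perm (Fin n)) where
  carrier := {σ | ∃ y ∈ H, Acts ε y σ}
  one_mem' := ⟨1, one_mem _, Acts.one⟩
  mul_mem' {σ τ} hσ hτ := by
    obtain ⟨y, hy, hyσ⟩ := hσ
    obtain ⟨z, hz, hzτ⟩ := hτ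
    exact ⟨y * z, mul_mem hy hz, hyσ.mul hzτ⟩
  inv_mem' {σ} hσ := by
    obtain ⟨y, hy, hyσ⟩ := hσ
    exact ⟨y⁻¹, inv_mem hy, hyσ.inv⟩

theorem mem_ind {H : Subgroup G} {σ : Equiv.Perm (Fin n)} : σ ∈ ind ε H ↔ ∃ y ∈ H, Acts ε y σ :=
  Iff.rfl

/-- `N_P(C_B(V)) ∩ N(V Z_J)` -/
def DD (S : Sylow 2 G) (P V : Subgroup G) : Subgroup G :=
  P ⊓ normalizer (QL (S : Subgroup G) V : Set G) ⊓
    normalizer ((V ⊔ zj (S : Subgroup G) : Subgroup G) : Set G)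

theorem mem_DD {y : G} : y ∈ DD S P V ↔ (y ∈ P ∧ y ∈ normalizer (QL (S : Subgroup G) V : Set G)) ∧
    y ∈ normalizer ((V ⊔ zj (S : Subgroup G) : Subgroup G) : Set G) := by
  unfold DD
  rw [mem_inf, mem_inf]

/-! ### 2-elements -/

theorem two_part [Finite G] (y : G) (N : ℕ) :
    ∃ k, IsPGroup 2 (zpowers (y ^ k)) ∧ k ≡ 1 [MOD 2 ^ N] := by
  have hy : 0 < orderOf y := orderOf_pos y
  obtain ⟨a, r, hr, hor⟩ := Nat.exists_eq_two_pow_mul_odd (Nat.pos_iff_ne_zero.1 hy)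
  have hco : Nat.Coprime r (2 ^ N) := Nat.Coprime.pow_right N (Nat.coprime_two_right.2 hr)
  obtain ⟨k, hk1, hk2⟩ := Nat.chineseRemainder hco 0 1
  refine ⟨k, ?_, hk2⟩
  have h1 : r ∣ k := (Nat.modEq_zero_iff_dvd).1 hk1
  have h2 : (y ^ k) ^ 2 ^ a = 1 := by
    obtain ⟨t, rfl⟩ := h1
    rw [← pow_mul, show r * t * 2 ^ a = 2 ^ a * r * t by ring, ← hor, pow_mul, pow_orderOf_eq_one,
      one_pow]
  rintro ⟨z, hz⟩
  obtain ⟨i, rfl⟩ := mem_zpowers_iff.1 hz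
  refine ⟨a, ?_⟩
  rw [Subtype.ext_iff]
  push_cast
  rw [← zpow_natCast, ← zpow_mul, mul_comm, zpow_mul, zpow_natCast, h2, one_zpow]

theorem Acts_pow {y : G} {σ : Equiv.Perm (Fin n)} (hy : Acts ε y σ) (k : ℕ) :
    Acts ε (y ^ k) (σ ^ k) := by
  induction k with
  | zero =>
    rw [pow_zero, pow_zero]
    exact Acts.one
  | succ k ih =>
    rw [pow_succ, pow_succ]
    exact ih.mul hy

/-- A 2-element of `H` inducing `σ`. -/
theorem exists_two [Finite G] {H : Subgroup G} {σ : Equiv.Perm (Fin n)} {N : ℕ}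
    (hσ : σ ^ 2 ^ N = 1) (h : σ ∈ ind ε H) :
    ∃ y ∈ H, Acts ε y σ ∧ IsPGroup 2 (zpowers y) := by
  obtain ⟨y, hy, hyσ⟩ := h
  obtain ⟨k, hk, hk1⟩ := two_part y N
  refine ⟨y ^ k, pow_mem hy k, ?_, hk⟩
  have h1 := Acts_pow hyσ k
  have h2 : σ ^ k = σ := by
    conv_rhs => rw [← pow_one σ]
    rw [pow_eq_pow_iff_modEq]
    exact hk1.of_dvd (orderOf_dvd_of_pow_eq_one hσ)
  rwa [h2] at h1

section

variable [Finite G] (h : Ctx S P Q E L V) (ev : EvenSet n E P ε)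
include h ev

theorem Q_acts {s : G} (hs : s ∈ Q) : Acts ε s 1 := fun x => by
  rw [h.QE s hs _ (ev.mem x)]
  change ε x * s * s⁻¹ = ε x
  group

theorem DD_cj {y : G} (hy : y ∈ DD S P V) :
    cj y (V ⊔ zj (S : Subgroup G)) = V ⊔ zj (S : Subgroup G) :=
  mem_normalizer_iff_cj.1 (mem_DD.1 hy).2

/-- An element inducing a permutation which fixes a nontrivial element of `C_E(L)`. -/
theorem ind_or {b d y : G} (hb : b ∈ bau (S : Subgroup G)) (hd : d ∈ E) (hd1 : d ≠ 1)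
    (hL : ∀ l ∈ L, l * d = d * l) (hy : y ∈ P) (hyd : y * d * y⁻¹ = d)
    {σ : Equiv.Perm (Fin n)} (hσ : Acts ε y σ) :
    σ ∈ ind ε (DD S P V) ∨
      ∀ x ∈ pull ev (EB E Q (V ⊔ zj (S : Subgroup G)) b), x ∘ σ ∈ pull ev (centralizer (L : Set G)) := by
  have key : ∀ {z : G}, z * d * z⁻¹ = d → ∀ l ∈ cj z L, l * d = d * l := by
    intro z hz l hl
    obtain ⟨l', hl', rfl⟩ := mem_cj_iff.1 hl
    have h1 := comm_conj_iff (g := z) |>.2 (hL l' hl')
    rwa [hz] at h1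
  by_cases hs : ∃ s ∈ Q, cj y (QL (S : Subgroup G) V) = cj s (QL (S : Subgroup G) V)
  · left
    obtain ⟨s, hs, he⟩ := hs
    have hy' : s⁻¹ * y ∈ P := mul_mem (inv_mem (h.QP hs)) hy
    have hd' : s⁻¹ * y * d * (s⁻¹ * y)⁻¹ = d := by
      have h1 : s * d * s⁻¹ = d := by rw [h.QE s hs d hd]; group
      calc s⁻¹ * y * d * (s⁻¹ * y)⁻¹ = s⁻¹ * (y * d * y⁻¹) * s := by group
        _ = s⁻¹ * (s * d * s⁻¹) * s := by rw [hyd, h1]
        _ = d := by group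
    have he' : cj (s⁻¹ * y) (QL (S : Subgroup G) V) = QL (S : Subgroup G) V := by
      rw [← cj_cj, he, cj_inv_cj]
    refine ⟨s⁻¹ * y, mem_DD.2 ⟨⟨hy', mem_normalizer_iff_cj.2 he'⟩, mem_normalizer_iff_cj.2
      (h.same hy' he' hd hd1 hL (key hd'))⟩, ?_⟩
    have h2 := (Q_acts h ev hs).inv.mul hσ
    rwa [inv_one, one_mul] at h2
  · right
    push Not at hs
    intro x hx
    rw [mem_pull, mem_centralizer_iff]
    intro l hl
    have h1 := h.apartQ hy hd hd1 hL (key hyd) hs hb (ε x) hx (y * l * y⁻¹) (conj_mem_cj hl)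
    have h2 : ε x = y * ε (x ∘ σ) * y⁻¹ := by
      rw [hσ]
      congr 1
      funext i
      simp
    rw [h2] at h1
    exact comm_conj_iff.1 h1

/-- `E_b^σ ∩ C_E(L) = 1` -/
theorem dis {b y : G} (hb : Good (S : Subgroup G) Q V b) (hy : y ∈ DD S P V)
    {σ : Equiv.Perm (Fin n)} (hσ : Acts ε y σ) {x : Fin n → ZMod 2}
    (hx : x ∈ pull ev (EB E Q (V ⊔ zj (S : Subgroup G)) b))
    (hxK : x ∘ σ.symm ∈ pull ev (centralizer (L : Set G))) : x = 0 ∨ x = 1 := by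
  have hyD := mem_DD.1 hy
  have h1 : ε (x ∘ σ.symm) ∈ EB E Q (V ⊔ zj (S : Subgroup G)) (y * b * y⁻¹) := by
    rw [← h.cj_EB hyD.1.1 (DD_cj h ev hy), ← hσ]
    exact conj_mem_cj hx
  have h2 := h.EB_disj (h.good_conj hb hyD.1.1 hyD.1.2) h1 fun l hl =>
    mem_centralizer_iff.1 hxK l hl
  rw [← hσ] at h2
  have h3 : ε x = 1 := by
    calc ε x = y⁻¹ * (y * ε x * y⁻¹) * y := by group
      _ = 1 := by rw [h2]; group
  exact (ev.ker x).1 h3

/-- `E = E_b C_E(L)^σ` -/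
theorem spl {b y : G} (hb : Good (S : Subgroup G) Q V b) (hy : y ∈ DD S P V)
    {σ : Equiv.Perm (Fin n)} (hσ : Acts ε y σ) (x : Fin n → ZMod 2) :
    ∃ u ∈ pull ev (EB E Q (V ⊔ zj (S : Subgroup G)) b),
      ∃ c ∈ pull ev (centralizer (L : Set G)), x = u + c ∘ σ.symm := by
  have hy' : y⁻¹ ∈ DD S P V := inv_mem hy
  have hyD := mem_DD.1 hy'
  have hP := (mem_DD.1 hy).1.1
  have h1 : y⁻¹ * ε x * y ∈ E := conj_mem_of_norm' h.PE hP (ev.mem x)
  obtain ⟨u', hu', c', hc', hc, he⟩ := h.EB_split (h.good_conj hb hyD.1.1 hyD.1.2) h1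
  rw [← h.cj_EB hyD.1.1 (DD_cj h ev hy')] at hu'
  obtain ⟨u, hu, rfl⟩ := mem_cj_iff.1 hu'
  obtain ⟨ux, rfl⟩ := ev.surj u (mem_inf.1 hu).1
  obtain ⟨cx, rfl⟩ := ev.surj c' hc'
  have h2 : ε x = ε (ux + cx ∘ σ.symm) := by
    rw [ev.add, ← hσ]
    calc ε x = y * (y⁻¹ * ε x * y) * y⁻¹ := by group
      _ = _ := by rw [he]; group
  rcases ev.eq_iff.1 h2 with h3 | h3
  · exact ⟨ux, hu, cx, mem_centralizer_iff.2 hc, h3⟩
  · refine ⟨ux + 1, AddSubgroup.add_mem _ (show ux ∈ pull ev _ from hu) (one_mem_pull ev _), cx,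
      mem_centralizer_iff.2 hc, ?_⟩
    rw [h3]
    abel

/-- A good element for a 2-element of `N_P(C_B(V)) ∩ N(V Z_J)`. -/
theorem good_inv {y : G} (hy : y ∈ DD S P V) (hy2 : IsPGroup 2 (zpowers y)) :
    ∃ b, Good (S : Subgroup G) Q V b ∧
      cj y (EB E Q (V ⊔ zj (S : Subgroup G)) b) = EB E Q (V ⊔ zj (S : Subgroup G)) b := by
  have hyD := mem_DD.1 hy
  set Q1 := Q ⊓ normalizer (QL (S : Subgroup G) V : Set G) with hQ1
  have hyQ : zpowers y ≤ normalizer (Q1 : Set G) := by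
    rw [zpowers_le, mem_normalizer_iff]
    intro z
    rw [hQ1, mem_inf, mem_inf]
    refine and_congr (mem_normalizer_iff.1 (h.PQ hyD.1.1) z) ⟨fun hz => ?_, fun hz => ?_⟩
    · exact mul_mem (mul_mem hyD.1.2 hz) (inv_mem hyD.1.2)
    · have h1 := mul_mem (mul_mem (inv_mem hyD.1.2) hz) hyD.1.2
      have h2 : y⁻¹ * (y * z * y⁻¹) * y = z := by group
      rwa [h2] at h1
  obtain ⟨b, hb, hbP, hbR⟩ := exists_good h.k (R := Q1 ⊔ zpowers y)
    (IsPGroup.to_sup_of_normal_left' (h.Q2.to_le inf_le_left) hy2 hyQ)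
    (sup_le (inf_le_left.trans (h.QP.trans h.nB)) (by rw [zpowers_le]; exact h.nB hyD.1.1))
    (sup_le inf_le_right (by rw [zpowers_le]; exact hyD.1.2))
  refine ⟨b, ⟨hb, hbP, fun s hs hsn => hbR s (mem_sup_left ⟨hs, hsn⟩)⟩, ?_⟩
  rw [h.cj_EB hyD.1.1 (DD_cj h ev hy)]
  have h1 := hbR y (mem_sup_right (mem_zpowers y))
  have e : y * b * y⁻¹ = b * (b⁻¹ * (y * b * y⁻¹)) := by group
  rw [e, h.EB_coset hb h1]

theorem inv_pull {b y : G} {σ : Equiv.Perm (Fin n)} (hσ : Acts ε y σ)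
    (he : cj y (EB E Q (V ⊔ zj (S : Subgroup G)) b) = EB E Q (V ⊔ zj (S : Subgroup G)) b) :
    ∀ x ∈ pull ev (EB E Q (V ⊔ zj (S : Subgroup G)) b),
      x ∘ σ.symm ∈ pull ev (EB E Q (V ⊔ zj (S : Subgroup G)) b) := by
  intro x hx
  rw [mem_pull, ← hσ, ← he]
  exact conj_mem_cj hx

theorem good_ex : ∃ b, Good (S : Subgroup G) Q V b := by
  obtain ⟨b, hb, -⟩ := good_inv h ev (y := 1) (one_mem _) (by
    rw [zpowers_one_eq_bot]
    exact IsPGroup.of_bot)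
  exact ⟨b, hb⟩

theorem pull_ne {b : G} (hb : Good (S : Subgroup G) Q V b) :
    ∃ u ∈ pull ev (EB E Q (V ⊔ zj (S : Subgroup G)) b), u ≠ 0 ∧ u ≠ 1 := by
  obtain ⟨e, he, he1⟩ := h.EB_ne hb
  obtain ⟨u, rfl⟩ := ev.surj e (mem_inf.1 he).1
  refine ⟨u, he, fun h0 => he1 ?_, fun h0 => he1 ?_⟩
  · rw [h0, ev.zero]
  · rw [h0, ev.one]

/-- Steps (3), (4): `|C_E(L)| > 2` is impossible. -/
theorem big {m : ℕ} (hn : n = 2 ^ (m + 1) + 1) {d d' : G} (hd : d ∈ E) (hd1 : d ≠ 1)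
    (hL : ∀ l ∈ L, l * d = d * l) (hd' : d' ∈ E) (hd1' : d' ≠ 1) (hL' : ∀ l ∈ L, l * d' = d' * l)
    (hne : d ≠ d') : False := by
  have hcard : Fintype.card (Fin n) = 2 ^ (m + 1) + 1 := by rw [Fintype.card_fin, hn]
  have hodd : Odd (Fintype.card (Fin n)) := by
    rw [hcard]
    exact Even.add_one (Nat.even_pow.2 ⟨even_two, by omega⟩)
  obtain ⟨x, rfl⟩ := ev.surj d hd
  obtain ⟨x', rfl⟩ := ev.surj d' hd'
  set K := pull ev (centralizer (L : Set G)) with hK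
  have hxK : x ∈ K := mem_centralizer_iff.2 hL
  have hxK' : x' ∈ K := mem_centralizer_iff.2 hL'
  have hne0 : ∀ z : Fin n → ZMod 2, ε z ≠ 1 ↔ z ≠ 0 ∧ z ≠ 1 := by
    intro z
    rw [Ne, ev.ker, not_or]
  -- a nontrivial element of `C_E(L)` fixed by a given transposition
  have hfix : ∀ a c : Fin n, ∃ z ∈ K, ε z ≠ 1 ∧ z a = z c := by
    intro a c
    by_cases h1 : x a = x c
    · exact ⟨x, hxK, hd1, h1⟩
    by_cases h2 : x' a = x' c
    · exact ⟨x', hxK', hd1', h2⟩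
    refine ⟨x + x', K.add_mem hxK hxK', ?_, ?_⟩
    · rw [ev.add]
      intro h3
      exact hne ((mul_eq_one_iff_eq_inv.1 h3).trans (ev.inv x'))
    · rw [Pi.add_apply, Pi.add_apply]
      rcases Comb.zmod_two (x a) with h3 | h3 <;> rcases Comb.zmod_two (x c) with h4 | h4 <;>
      rcases Comb.zmod_two (x' a) with h5 | h5 <;> rcases Comb.zmod_two (x' c) with h6 | h6 <;>
      rw [h3, h4] at h1 <;> rw [h5, h6] at h2 <;> rw [h3, h4, h5, h6] <;> first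
        | exact absurd rfl h1 | exact absurd rfl h2 | decide
  obtain ⟨b0, hb0⟩ := good_ex h ev
  obtain ⟨u, hu, hu0, hu1⟩ := pull_ne h ev hb0
  have htop : ind ε (DD S P V) = ⊤ := by
    refine Comb.allSwap (U := pull ev (EB E Q (V ⊔ zj (S : Subgroup G)) b0)) (K := K) hodd
      (one_mem_pull ev _) hu hu0 hu1 ?_ ?_
    · intro z hz hzK
      refine dis h ev hb0 (one_mem _) Acts.one hz ?_
      exact hzK
    · intro a c hac
      obtain ⟨z, hz, hz1, hzac⟩ := hfix a c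
      obtain ⟨y, hy, hya⟩ := ev.full (Equiv.swap a c)
      rcases ind_or h ev hb0.mem (ev.mem z) hz1 (fun l hl => mem_centralizer_iff.1 hz l hl) hy
        (by
          rw [hya]
          congr 1
          exact Comb.comp_swap_eq z hzac) hya with h1 | h1
      · exact absurd h1 hac
      · exact h1
  obtain ⟨ρ, hρ, hρc⟩ := Comb.exists_cycle hcard
  have hρo : ρ⁻¹ ^ 2 ^ (m + 1) = 1 := by
    rw [inv_pow, ← hρc, ← hρ.orderOf, pow_orderOf_eq_one, inv_one]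
  obtain ⟨y, hy, hyρ, hy2⟩ := exists_two (H := DD S P V) (ε := ε) hρo (by rw [htop]; trivial)
  obtain ⟨b, hb, hyb⟩ := good_inv h ev hy hy2
  obtain ⟨v, hv, hv0, hv1⟩ := pull_ne h ev hb
  have hact : ∀ σ : Equiv.Perm (Fin n), ∃ y ∈ DD S P V, Acts ε y σ := by
    intro σ
    have h1 : σ ∈ ind ε (DD S P V) := by rw [htop]; trivial
    exact h1
  refine Comb.noCycle hcard hρ hρc (U := pull ev (EB E Q (V ⊔ zj (S : Subgroup G)) b)) (K := K)
    (one_mem_pull ev _) (one_mem_pull ev _) ?_ hxK ((hne0 x).1 hd1).1 ((hne0 x).1 hd1).2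
    (inv_pull h ev hyρ hyb) ?_ ?_
  · intro hKt
    have h1 : v ∈ K := by rw [hKt]; trivial
    rcases dis h ev hb (one_mem _) Acts.one hv h1 with h2 | h2
    · exact hv0 h2
    · exact hv1 h2
  · intro σ z hz hzK
    obtain ⟨y', hy', hyσ⟩ := hact σ⁻¹
    exact dis h ev hb hy' hyσ hz hzK
  · intro σ z
    obtain ⟨y', hy', hyσ⟩ := hact σ⁻¹
    exact spl h ev hb hy' hyσ z

/-- Step (5): `|C_E(L)| = 2` is impossible. -/
theorem small {m : ℕ} (hn : n = 2 ^ (m + 1) + 1) {d : G} (hd : d ∈ E) (hd1 : d ≠ 1)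
    (hL : ∀ l ∈ L, l * d = d * l) (hK : ∀ c ∈ E, (∀ l ∈ L, l * c = c * l) → c = 1 ∨ c = d) :
    False := by
  have hcard : Fintype.card (Fin n) = 2 ^ (m + 1) + 1 := by rw [Fintype.card_fin, hn]
  have hodd : Odd (Fintype.card (Fin n)) := by
    rw [hcard]
    exact Even.add_one (Nat.even_pow.2 ⟨even_two, by omega⟩)
  obtain ⟨x0, rfl⟩ := ev.surj d hd
  -- the even representative
  obtain ⟨x, hx0, hx1, hxs, hxx⟩ : ∃ x : Fin n → ZMod 2, x ≠ 0 ∧ x ≠ 1 ∧ ∑ i, x i = 0 ∧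
      ε x = ε x0 := by
    have h1 : x0 ≠ 0 ∧ x0 ≠ 1 := by
      rwa [Ne, ev.ker, not_or] at hd1
    obtain ⟨x, -, hx0, hx1, hxs, hxx⟩ := Comb.exists_even hodd (A := ⊤) (AddSubgroup.mem_top 1)
      (AddSubgroup.mem_top x0) h1.1 h1.2
    refine ⟨x, hx0, hx1, hxs, ?_⟩
    rcases hxx with rfl | rfl
    · rfl
    · rw [ev.add, ev.one, mul_one]
  rw [← hxx] at hd1 hL hK hd
  set K := pull ev (centralizer (L : Set G)) with hKdef
  have hxK : x ∈ K := mem_centralizer_iff.2 hL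
  obtain ⟨b0, hb0⟩ := good_ex h ev
  obtain ⟨u, hu, hu0, hu1⟩ := pull_ne h ev hb0
  have hsw : ∀ a c, x a = x c → Equiv.swap a c ∈ ind ε (DD S P V) := by
    intro a c hac
    obtain ⟨y, hy, hya⟩ := ev.full (Equiv.swap a c)
    have hyd : y * ε x * y⁻¹ = ε x := by
      rw [hya]
      congr 1
      exact Comb.comp_swap_eq x hac
    rcases ind_or h ev hb0.mem (ev.mem x) hd1 hL hy hyd hya with h1 | h1
    · exact h1
    · exfalso
      have h2 := h1 u hu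
      have h3 : ε u = 1 ∨ ε u = ε x := by
        have h4 : ε u = y * ε (u ∘ Equiv.swap a c) * y⁻¹ := by
          rw [hya]
          congr 1
          funext i
          simp
        rcases hK _ (ev.mem _) (fun l hl => mem_centralizer_iff.1 h2 l hl) with h5 | h5
        · left
          rw [h4, h5]
          group
        · right
          rw [h4, h5, hyd]
      have h4 : ε u ∈ centralizer (L : Set G) := by
        rcases h3 with h3 | h3
        · rw [h3]; exact one_mem _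
        · rw [h3]; exact hxK
      rcases dis h ev hb0 (one_mem _) Acts.one hu h4 with h5 | h5
      · exact hu0 h5
      · exact hu1 h5
  obtain ⟨k, hk⟩ := Comb.even_weight hxs
  obtain ⟨θ, e, hθ, hθ2, hθf, -, hes⟩ := Comb.exists_pairing k _ hk
  have hex : e + e ∘ θ = x := by
    rw [hes]
    funext i
    rcases Comb.zmod_two (x i) with h1 | h1
    · simp [h1]
    · simp [h1]
  have hθD : θ ∈ ind ε (DD S P V) := by
    refine (closure_le _).2 ?_ hθ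
    rintro σ ⟨a, ha, c, hc, rfl⟩
    refine hsw a c ?_
    rw [Finset.mem_filter] at ha hc
    rw [ha.2, hc.2]
  obtain ⟨y, hy, hyθ, hy2⟩ := exists_two (N := 1) (by rw [pow_one, pow_two, hθ2]) hθD
  obtain ⟨b, hb, hyb⟩ := good_inv h ev hy hy2
  have hθs : θ.symm = θ := by
    have h1 : θ⁻¹ = θ := inv_eq_of_mul_eq_one_left hθ2
    exact h1
  have hinv := inv_pull h ev hyθ hyb
  rw [hθs] at hinv
  have hxθ : x ∘ θ = x := by
    rw [← hex]
    have h1 : (e + e ∘ θ) ∘ θ = e ∘ θ + (e ∘ θ) ∘ θ := rfl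
    have h2 : (e ∘ θ) ∘ θ = e := by
      funext i
      have h3 : θ (θ i) = i := by rw [← Equiv.Perm.mul_apply, hθ2]; rfl
      simp only [Function.comp_apply, h3]
    rw [h1, h2, add_comm]
  have hxU : x ∈ pull ev (EB E Q (V ⊔ zj (S : Subgroup G)) b) := by
    refine Comb.mem_of_pairing hxθ hex ?_ hinv
    intro z
    obtain ⟨w, hw, c, hc, hcL, hz⟩ := h.EB_split hb (ev.mem z)
    rcases hK c hc hcL with h1 | h1
    · left
      rw [mem_pull, hz, h1, mul_one]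
      exact hw
    · right
      rw [mem_pull, ev.add, hz, h1, mul_assoc, ev.sq, mul_one]
      exact hw
  rcases dis h ev hb (one_mem _) Acts.one hxU hxK with h5 | h5
  · exact hx0 h5
  · exact hx1 h5

/-- THEOREM BL* -/
theorem noBlock {m : ℕ} (hn : n = 2 ^ (m + 1) + 1) : False := by
  obtain ⟨d, hd, hd1, hL⟩ := h.nK
  by_cases hK : ∀ c ∈ E, (∀ l ∈ L, l * c = c * l) → c = 1 ∨ c = d
  · exact small h ev hn hd hd1 hL hK
  · push Not at hK
    obtain ⟨c, hc, hcL, hc1, hcd⟩ := hK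
    exact big h ev hn hd hd1 hL hc hc1 hcL (Ne.symm hcd)

end

end Cfsg.Agent.Omega.NSix.NoBlk.Sym

end

section


/-!
# THEOREM BL* (OMEGA #18620, helper107)

`G` of characteristic 2 type, `S ∈ Syl₂(P)`, `Q = O₂(P)`, `E = Ω₁(Z(Q))` the even-subset module of degree
`n = 2^m + 1` (`P` induces `Sym(n)`, `C_S(E) ≤ Q`), `J(S) ≤ Q`.

* `no_blk`: no Baumann block `(L, V)` over `bau S` satisfying (N) (for `T ≥ Q`) centralises `1 ≠ d ∈ E`;
* `hasBlk_of`: the FF theorem gives a block satisfying (N);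
* `cen`: `Q ≤ T`, `X ≤ C_G(d)` a minimal parabolic over `T ∈ Syl₂(X)` of characteristic 2 with `J(S) ≰ O₂(X)`:
  then `O²(X)` centralises `⟨Ω₁(Z(T))^X⟩`.
-/

set_option autoImplicit false

namespace Cfsg.Agent.Omega.NSix.NoBlk.Main

open Subgroup Cfsg Cfsg.Agent.PLocal.ThompsonJ Cfsg.Agent.ZN Cfsg.Agent.ZN.ChoiceBase
open Cfsg.Agent.ZN.ChoiceSit
open Cfsg.Agent.Omega.SQ1.BauK.InK (QL mem_QL not_QL)
open Cfsg.Agent.Omega.NO3b.FPB.Base Cfsg.Agent.Omega.NO3b.FPB.Claim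
open Cfsg.Agent.Omega.NSix.NoBlk.Pair Cfsg.Agent.Omega.NSix.NoBlk.Core
open Cfsg.Agent.Omega.S5.Def
open Cfsg.Agent.MinSimple.MinParabolic (IsMinPar)
open Cfsg.Agent.MinSimple.VModule (oddGen)

universe u

variable {G : Type u} [Group G] {T X L V : Subgroup G}

/-- (N) : `N_T(C_B(V))` normalises `C_{Z_J}(L)`. -/
def NN (T L V : Subgroup G) : Prop :=
  ∀ s ∈ T, s ∈ normalizer (QL T V : Set G) → ∀ z ∈ zj T, (∀ l ∈ L, l * z = z * l) →
    ∀ l ∈ L, l * (s * z * s⁻¹) = (s * z * s⁻¹) * l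

/-- A Baumann block over `bau T` in `X` satisfying (N). -/
def HasBlk (T X : Subgroup G) : Prop := ∃ L V : Subgroup G, L ≤ X ∧ PB T L V ∧ NN T L V

theorem hasBlk_nat [Finite G] {H T Q V V0 : Subgroup G} {ι : Type} {N A : ι → Subgroup G} {q : ℕ}
    (h : SQ1.BauK.InK H T Q V V0 N A q) (i : ι) : HasBlk T H := by
  obtain ⟨L, k⟩ := h.exists_blk i
  refine ⟨L, NO3b.FPB.OfInK.N0 N i L, k.LH h, ⟨NO3b.FPB.OfInK.blk k h, ?_,
    NO3b.FPB.OfInK.bk k h le_top (PB.le_norm_top L)⟩, fun s hs hn z hz hc =>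
    Nrm.nrmK k h hs hn hz hc⟩
  exact isElementaryAbelian_mono
    (isElementaryAbelian_iff.2 ⟨fun v hv w hw => h.VcQ v (h.VQ hv) w hw, h.Vsq⟩)
    ((NO3b.FPB.OfInK.N0_le k h).trans (h.NV i))

theorem hasBlk_sym [Finite G] {H T Q V : Subgroup G} {ι : Type} {N : ι → Subgroup G} {d t r : ι → G}
    (hT : Syl T H) (h : SQ1.BauS.In H T Q V N d t r) (i : ι) : HasBlk T H := by
  obtain ⟨L, k⟩ := h.exists_blk i
  exact ⟨L, N i, k.LP.trans (h.PP_le i), ⟨NO3b.FPB.OfS.blk k h,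
    isElementaryAbelian_mono h.Velem (h.NV i),
    NO3b.FPB.OfS.bk k h le_top (PB.le_norm_top L)⟩, fun s hs hn z hz hc =>
    Nrm.nrmS hT k h hs hn hz hc⟩

/-- The FF theorem gives a block satisfying (N). -/
theorem hasBlk_of [Finite G] (hFF : FFThm.Stmt.{u}) (hT : Syl T X)
    (hP : IsMinPar T X) (hc : X ⊓ centralizer (o2 X : Set G) ≤ o2 X) (hJ : ¬ jj T ≤ o2 X)
    (hne : (X ⊓ centralizer (zl T X : Set G)) ⊔ T ≠ X) : HasBlk T X := by
  rcases NO3b.FPB.OfStmt.of_stmt hFF hT hP hc hJ hne with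
    ⟨ι, N, A, q, ⟨i⟩, h⟩ | ⟨ι, N, d, t, r, ⟨i⟩, h, -⟩
  · exact hasBlk_nat h i
  · exact hasBlk_sym hT h i

/-- The data of `P`: `E = Ω₁(Z(O₂(P)))` is the even-subset module of degree `2^m + 1`, `J(S) ≤ O₂(P)`. -/
structure Dat (S : Sylow 2 G) (P E : Subgroup G) {n : ℕ} (ε : (Fin n → ZMod 2) → G) : Prop where
  hG : IsCharacteristicTwoType G
  SP : (S : Subgroup G) ≤ P
  ev : EvenSet n E P ε
  zE : zc (o2 P) = E
  cE : (S : Subgroup G) ⊓ centralizer (E : Set G) ≤ o2 P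
  J : jj (S : Subgroup G) ≤ o2 P

namespace Dat

variable {S : Sylow 2 G} {P E : Subgroup G} {n : ℕ} {ε : (Fin n → ZMod 2) → G}

theorem QS [Finite G] (D : Dat S P E ε) : o2 P ≤ (S : Subgroup G) :=
  o2_le_syl (MinSimple.EmptyTI.syl_of_le D.SP)

theorem EZ [Finite G] (D : Dat S P E ε) : E ≤ zj (S : Subgroup G) := by
  intro e he
  rw [← D.zE, ChoiceBase.mem_zc] at he
  have hc : ∀ j ∈ jj (S : Subgroup G), j * e = e * j := fun j hj => he.2.2 j (D.J hj)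
  exact ChoiceBase.mem_zj.2 ⟨mem_jj_of_comm (D.QS he.1) he.2.1 hc, he.2.1, hc⟩

theorem BQ [Finite G] (D : Dat S P E ε) : bau (S : Subgroup G) ≤ o2 P := fun b hb =>
  D.cE ⟨ChoiceBase.bau_le _ hb, mem_centralizer_iff.2 fun e he => (mem_bau.1 hb).2 e (D.EZ he)⟩

theorem bauQ [Finite G] (D : Dat S P E ε) : bau (o2 P) = bau (S : Subgroup G) :=
  LemmaK.Main.bau_eq S (ZN.isPGroup_o2 P) D.BQ

theorem nB [Finite G] (D : Dat S P E ε) : P ≤ normalizer (bau (S : Subgroup G) : Set G) := by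
  rw [← D.bauQ]
  exact (ZN.le_normalizer_o2 P).trans (normalizer_le_bau _)

theorem ctx [Finite G] (D : Dat S P E ε) (hQT : o2 P ≤ T) (hT2 : IsPGroup 2 T) (k : PB T L V)
    (hN : NN T L V) {d : G} (hd : d ∈ E) (hd1 : d ≠ 1) (hL : ∀ l ∈ L, l * d = d * l) :
    Ctx S P (o2 P) E L V := by
  have hb : bau T = bau (S : Subgroup G) := LemmaK.Main.bau_eq S hT2 (D.BQ.trans hQT)
  have hz : zj T = zj (S : Subgroup G) := NO3b.FPB.Move.zj_eq hb
  have hq : QL T V = QL (S : Subgroup G) V := by unfold QL; rw [hb]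
  exact
    { hG := D.hG
      k := k.of_bau hb
      nB := D.nB
      Q2 := ZN.isPGroup_o2 P
      QP := ZN.o2_le P
      PQ := ZN.le_normalizer_o2 P
      EZ := D.EZ
      PE := D.ev.le_normalizer
      QE := fun s hs e he => by
        rw [← D.zE, ChoiceBase.mem_zc] at he
        exact he.2.2 s hs
      CE := fun z hz hc => by
        rw [← D.zE, ChoiceBase.mem_zc]
        have hz' := ChoiceBase.mem_zj.1 hz
        exact ⟨D.J hz'.1, hz'.2.1, hc⟩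
      nK := ⟨d, hd, hd1, hL⟩
      nrm := fun t ht htn z hz' hc => hN t (hQT ht) (by rw [hq]; exact htn) z (by rw [hz]; exact hz')
        hc }

end Dat

variable {S : Sylow 2 G} {P E : Subgroup G} {m : ℕ} {ε : (Fin (2 ^ m + 1) → ZMod 2) → G}

/-- **THEOREM BL\*** -/
theorem no_blk [Finite G] (D : Dat S P E ε) (hm : 1 ≤ m) (hQT : o2 P ≤ T) (hT2 : IsPGroup 2 T)
    (k : PB T L V) (hN : NN T L V) {d : G} (hd : d ∈ E) (hd1 : d ≠ 1)
    (hL : ∀ l ∈ L, l * d = d * l) : False := by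
  obtain ⟨m, rfl⟩ : ∃ k, m = k + 1 := ⟨m - 1, by omega⟩
  exact Sym.noBlock (D.ctx hQT hT2 k hN hd hd1 hL) D.ev rfl

/-- **COR.** of THEOREM BL*. -/
theorem cen [Finite G] (hFF : FFThm.Stmt.{u}) (D : Dat S P E ε) (hm : 1 ≤ m) (hQT : o2 P ≤ T)
    (hT : Syl T X) (hP : IsMinPar T X) (hc : X ⊓ centralizer (o2 X : Set G) ≤ o2 X) {d : G}
    (hd : d ∈ E) (hd1 : d ≠ 1) (hX : X ≤ centralizer {d}) (hJ : ¬ jj (S : Subgroup G) ≤ o2 X) :
    oddGen X ≤ centralizer (zl T X : Set G) := by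
  by_contra hne
  have hBT : bau (S : Subgroup G) ≤ T := D.BQ.trans hQT
  have hJT : ¬ jj T ≤ o2 X := by rwa [LemmaK.Main.jj_eq S hT.2.1 hBT]
  obtain ⟨L, V, hLX, k, hN⟩ := hasBlk_of hFF hT hP hc hJT (NO3b.FPB.Cen.cent_sup_ne hT hne)
  refine no_blk D hm hQT hT.2.1 k hN hd hd1 fun l hl => ?_
  exact (mem_centralizer_iff.1 (hX (hLX hl)) d (Set.mem_singleton d)).symm

/-- `Ω₁(Z(T)) ≤ C(O²(X))`. -/
theorem cen_zc [Finite G] (hFF : FFThm.Stmt.{u}) (D : Dat S P E ε) (hm : 1 ≤ m) (hQT : o2 P ≤ T)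
    (hT : Syl T X) (hP : IsMinPar T X) (hc : X ⊓ centralizer (o2 X : Set G) ≤ o2 X) {d : G}
    (hd : d ∈ E) (hd1 : d ≠ 1) (hX : X ≤ centralizer {d}) (hJ : ¬ jj (S : Subgroup G) ≤ o2 X) :
    zc T ≤ centralizer (oddGen X : Set G) :=
  SQ1.VOf.zc_le_zl.trans (le_centralizer_iff.1 (cen hFF D hm hQT hT hP hc hd hd1 hX hJ))

/-- The data for a minimal parabolic `P ∈ P*(S)` with `V_P` the even-subset module. -/
theorem dat_par [Finite G] (hG : IsCharacteristicTwoType G) (hP : MinPar.IsParS (S : Subgroup G) P)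
    {n : ℕ} {ε : (Fin n → ZMod 2) → G} (ev : EvenSet n (zl (S : Subgroup G) P) P ε)
    (hZ : zc (o2 P) = zl (S : Subgroup G) P) (hJ : jj (S : Subgroup G) ≤ o2 P) :
    Dat S P (zl (S : Subgroup G) P) ε where
  hG := hG
  SP := hP.isLoc.le
  ev := ev
  zE := hZ
  cE := (hP.inf_centralizer S hG).le
  J := hJ

end Cfsg.Agent.Omega.NSix.NoBlk.Main

end
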